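import Groth.Agent.Lib.LocCohZ.ModCompare
import Groth.Agent.Lib.CohFound.Qcqs

/-! Local cohomology sheaves vanish above the number of equations. -/

set_option autoImplicit false
set_option linter.style.haveILetI false
set_option backward.isDefEq.respectTransparency false

universe u

open CategoryTheory CategoryTheory.Limits AlgebraicGeometry TopologicalSpace Opposite Abelian

namespace Groth.Agent.LocEq9

open Groth.Agent.CohFound

variable {X : Scheme.{u}}

/-- Vanishing on unions of affines inside an affine. -/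
theorem subsingleton_hc_iSup (M : X.Modules) [M.IsQuasicoherent] {A : X.Opens} (hA : IsAffineOpen A) :
    ∀ (t : ℕ) (V : Fin t → X.Opens), (∀ i, IsAffineOpen (V i)) → (∀ i, V i ≤ A) → ∀ p, t ≤ p →
      Subsingleton (Hc ((abF X).obj M) p (⨆ i, V i)) := by
  intro t
  induction t with
  | zero =>
    intro U _ _ p _
    rw [iSup_of_empty]
    exact subsingleton_of_forall_eq 0 fun x => hc_bot_eq_zero _ p rfl x
  | succ n ih =>
    intro U hU hUA p hp
    obtain ⟨q, rfl⟩ : ∃ q, p = q + 1 := ⟨p - 1, by omega⟩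
    have e : (⨆ i, U i) = (⨆ i : Fin n, U i.castSucc) ⊔ U (Fin.last n) := by
      apply le_antisymm
      · refine iSup_le fun i => ?_
        rcases i.eq_castSucc_or_eq_last with ⟨j, rfl⟩ | rfl
        · exact le_sup_of_le_left (le_iSup (fun i : Fin n => U i.castSucc) j)
        · exact le_sup_right
      · exact sup_le (iSup_le fun i => le_iSup U _) (le_iSup U _)
    rw [e]
    refine subsingleton_hc_sup (ih _ (fun i => hU _) (fun i => hUA _) _ (by omega))
      (subsingleton_hc_isAffineOpen M (hU _) q) ?_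
    rw [iSup_inf_eq]
    exact ih _ (fun i => isAffineOpen_inf_of_le hA (hU _) (hU _) (hUA _) (hUA _))
      (fun i => inf_le_left.trans (hUA _)) _ (by omega)

/-- `ℋ^q_Z(F) = 0` if `H^q_Z(V, F) = 0` for a basis of `V`. -/
theorem isZero_HZsh_of_basis {Y : TopCat.{u}} (U : Opens Y) (F : CohTop.Ab Y) (q : ℕ) (B : Set (Opens Y))
    (hB : Opens.IsBasis B) (h : ∀ V ∈ B, Subsingleton (_root_.LocCohZ.HZ F q (inf_le_left : V ⊓ U ≤ V))) :
    IsZero ((_root_.LocCohZ.HZsh U q).obj F) := by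
  let R := injectiveResolution F
  refine IsZero.of_iso ?_ (R.isoRightDerivedObj (_root_.LocCohZ.sectSuppF U) q)
  change IsZero (HomologicalComplex.homology
    (((_root_.LocCohZ.sectSuppF U).mapHomologicalComplex _).obj R.cocomplex) q)
  rw [← HomologicalComplex.exactAt_iff_isZero_homology, HomologicalComplex.exactAt_iff]
  refine exact_of_local_lift fun V₀ s hs x hx => ?_
  obtain ⟨V, hV, hxV, hle⟩ := Opens.isBasis_iff_nbhd.1 hB hx
  refine ⟨V, hle, hxV, ?_⟩
  let P := _root_.LocCohZ.zq (inf_le_left : V ⊓ U ≤ V)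
  have h0 : IsZero (((preadditiveCoyoneda.obj (op P)).rightDerived q).obj F) :=
    haveI : Subsingleton (Abelian.Ext.{u} P F q) := h V hV
    (AddCommGrpCat.isZero_of_subsingleton _).of_iso (ExtDerived.rightDerivedCoyonedaIso P q F)
  have h1 : (ExtDerived.homCx P R).ExactAt q := by
    rw [HomologicalComplex.exactAt_iff_isZero_homology]
    exact h0.of_iso (R.isoRightDerivedObj _ q).symm
  rw [HomologicalComplex.exactAt_iff] at h1
  let S := (((_root_.LocCohZ.sectSuppF U).mapHomologicalComplex (ComplexShape.up ℕ)).obj R.cocomplex).sc q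
  let J := Opens.grothendieckTopology Y
  have h2 : (S.map (preadditiveCoyoneda.obj (op (CohCx.freeSheaf J V)))).Exact :=
    ShortComplex.exact_of_iso ((HomologicalComplex.shortComplexFunctor _ _ q).mapIso
      (((NatIso.mapHomologicalComplex (LocCohZ.sectSuppSectionsIso U V) (ComplexShape.up ℕ)).app R.cocomplex))).symm h1
  let s' := S.X₂.obj.map (homOfLE hle).op s
  have hs' : S.g.hom.app (op V) s' = 0 :=
    (NatTrans.naturality_apply S.g.hom (homOfLE hle).op s).trans
      ((congrArg (S.X₃.obj.map (homOfLE hle).op) hs).trans (map_zero _))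
  have hz : CohFree.ofSect J V S.X₂ s' ≫ S.g = 0 := by
    apply (CohFree.homEquivSect J V S.X₃).injective
    rw [map_zero]
    exact (congrArg (S.g.hom.app (op V)).hom (CohFree.evalGen_ofSect J V S.X₂ s')).trans hs'
  obtain ⟨y, hy⟩ := (ShortComplex.ab_exact_iff _).1 h2 (CohFree.ofSect J V S.X₂ s') hz
  exact ⟨CohFree.evalGen J V S.X₁ y,
    (congrArg (CohFree.evalGen J V S.X₂) hy).trans (CohFree.evalGen_ofSect J V S.X₂ s')⟩

/-- The vanishing theorem. -/
theorem isZero_HZshM [HasInjectiveResolutions X.Modules] (U : X.Opens) (c : ℕ)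
    (hT : ∀ x : X, ∃ (V : X.Opens) (fs : Finset Γ(X, V)), x ∈ V ∧ fs.card ≤ c ∧
      X.zeroLocus (U := V) (↑fs : Set Γ(X, V)) ∩ (V : Set ↥X) = (U : Set ↥X)ᶜ ∩ (V : Set ↥X))
    (F : X.Modules) [F.IsQuasicoherent] (i : ℕ) (hi : c < i) :
    IsZero ((_root_.LocCohZ.HZshM U.ι i).obj F) := by
  classical
  obtain ⟨m, rfl⟩ : ∃ m, i = m + 1 := ⟨i - 1, by omega⟩
  refine (LocCohZQ.isZero_HZshM_iff U F (m + 1)).2 ?_
  refine isZero_HZsh_of_basis (Y := X.carrier) U _ (m + 1) {W : X.Opens | IsAffineOpen W ∧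
      ∃ (V : X.Opens) (fs : Finset Γ(X, V)), W ≤ V ∧ fs.card ≤ c ∧
        X.zeroLocus (U := V) (↑fs : Set Γ(X, V)) ∩ (V : Set ↥X) = (U : Set ↥X)ᶜ ∩ (V : Set ↥X)} ?_ ?_
  · refine Opens.isBasis_iff_nbhd.2 fun {O x} hx => ?_
    obtain ⟨V, fs, hxV, hc, hZ⟩ := hT x
    obtain ⟨W, hW, hxW, hWO⟩ := Opens.isBasis_iff_nbhd.1 X.isBasis_affineOpens
      (show x ∈ O ⊓ V from ⟨hx, hxV⟩)
    exact ⟨W, ⟨hW, V, fs, hWO.trans inf_le_right, hc, hZ⟩, hxW, hWO.trans inf_le_left⟩
  rintro W ⟨hW, V, fs, hWV, hc, hZ⟩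
  refine LocCohZ.subsingleton_HZ_of_rs (X := X.carrier) U _ (m + 1) W (fun j hj => ?_) ?_
  · obtain rfl : j = m := by omega
    have key : Subsingleton (Hc ((abF X).obj F) j (W ⊓ U)) := by
      let e := fs.equivFin.symm
      have he : W ⊓ U = ⨆ k, W ⊓ X.basicOpen (e k : Γ(X, V)) := by
        refine Opens.ext (Set.ext fun x => ?_)
        simp only [Opens.coe_iSup, Set.mem_iUnion, SetLike.mem_coe, Opens.mem_inf]
        constructor
        · rintro ⟨hxW, hxU⟩
          have : x ∉ X.zeroLocus (U := V) (↑fs : Set Γ(X, V)) := fun hh =>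
            ((Set.ext_iff.1 hZ x).1 ⟨hh, hWV hxW⟩).1 hxU
          rw [Scheme.mem_zeroLocus_iff] at this
          push Not at this
          obtain ⟨f, hf, hxf⟩ := this
          exact ⟨e.symm ⟨f, hf⟩, hxW, by simpa using hxf⟩
        · rintro ⟨k, hxW, hxf⟩
          refine ⟨hxW, of_not_not fun hxU => ?_⟩
          exact (Scheme.mem_zeroLocus_iff _ _ _).1 ((Set.ext_iff.1 hZ x).2 ⟨hxU, hWV hxW⟩).1 _ (e k).2 hxf
      rw [he]
      refine subsingleton_hc_iSup F hW _ _ (fun k => ?_) (fun k => inf_le_left) j (by omega)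
      have h := hW.basicOpen (X.presheaf.map (homOfLE hWV).op (e k : Γ(X, V)))
      rwa [Scheme.basicOpen_res] at h
    exact fun y => ⟨0, @Subsingleton.elim _ key _ _⟩
  · exact fun a b _ => @Subsingleton.elim _ (subsingleton_hc_isAffineOpen F hW m) _ _

end Groth.Agent.LocEq9
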