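import Groth.Agent.Lib.LocEq9.Basic
import Groth.Agent.Lib.RgZ9.Scheme
import Groth.Agent.Lib.TorsBC27.Tensor
import Groth.Agent.Lib.RFPlus.DerivedZero
import Groth.Agent.Lib.ResProp14.FlatCover
import Groth.Agent.S9267

/-! Local cohomology sheaves of flat modules along a Koszul regular sequence. -/

set_option autoImplicit false
set_option linter.style.haveILetI false
set_option backward.isDefEq.respectTransparency false
set_option backward.isDefEq.respectTransparency.types false
set_option maxHeartbeats 800000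

universe u

open CategoryTheory CategoryTheory.Limits AlgebraicGeometry Opposite MonoidalCategory

attribute [local instance] HasDerivedCategory.standard

namespace Groth.Agent.LocEq9

theorem exists_cech_iso_of_iso {A : Type u} [CommRing A] {M N : ModuleCat.{u} A} (e : M ≅ N) : ∀ fs : List A,
    Nonempty (DerCA.extCech M fs ≅ DerCA.extCech N fs)
  | [] => ⟨(HomologicalComplex.single (ModuleCat.{u} A) (ComplexShape.up ℤ) 0).mapIso e⟩
  | g :: fs => by
    obtain ⟨a⟩ := exists_cech_iso_of_iso e fs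
    obtain ⟨c⟩ := RGamma27.nonempty_cone_iso (DerCA.locCxUnit (Submonoid.powers g) (DerCA.extCech M fs))
      (DerCA.locCxUnit (Submonoid.powers g) (DerCA.extCech N fs)) a
      ((DerCA.locCx (Submonoid.powers g)).mapIso a) (by
        ext i : 1
        exact ((DerCA.locUnit (Submonoid.powers g)).naturality (a.hom.f i)).symm)
    exact ⟨(shiftFunctor (DRing.Cx A) (-1 : ℤ)).mapIso c⟩

theorem isZero_extCechH_flat (A : Type u) [CommRing A] (fs : List A) (hfs : LCI.IsKoszulRegularSeq A fs)
    (M : ModuleCat.{u} A) [Module.Flat A M] (q : ℤ) (hq : q ≠ (fs.length : ℤ)) :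
    IsZero (DerCA.extCechH fs M q) := by
  let F := tensorRight M
  haveI : F.PreservesHomology := Functor.preservesHomology_of_map_exact _ fun T hT =>
    (ShortComplex.ShortExact.moduleCat_exact_iff_function_exact _).2
      (Module.Flat.rTensor_exact (M := M) ((ShortComplex.ShortExact.moduleCat_exact_iff_function_exact _).1 hT))
  obtain ⟨e⟩ := TorsBC27.exists_cech_tensor_iso M (ModuleCat.of A A) fs
  have h : IsZero ((DerCA.extCech (ModuleCat.of A A) fs).homology q) :=
    Groth.Agent.S9267.result A fs hfs q hq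
  have hT : IsZero (((TorsBC27.tenCx M).obj (DerCA.extCech (ModuleCat.of A A) fs)).homology q) :=
    (F.map_isZero h).of_iso (((DerCA.extCech (ModuleCat.of A A) fs).sc q).mapHomologyIso F)
  have eM : F.obj (ModuleCat.of A A) ≅ M := λ_ M
  have hM : IsZero ((DerCA.extCech (F.obj (ModuleCat.of A A)) fs).homology q) :=
    hT.of_iso ((HomologicalComplex.homologyFunctor _ _ q).mapIso e.symm)
  obtain ⟨e'⟩ := exists_cech_iso_of_iso eM fs
  exact hM.of_iso ((HomologicalComplex.homologyFunctor _ _ q).mapIso e'.symm)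

section Affine

variable {A : Type u} [CommRing A]

local notation "R₀" => CommRingCat.of A

theorem isZero_HZshM_punctured (fs : List A) (M : ModuleCat.{u} A) (q : ℕ)
    (h : IsZero (DerCA.extCechH fs M (q : ℤ))) :
    IsZero ((_root_.LocCohZ.HZshM (LocCoh.puncturedOpen A (Ideal.span {a | a ∈ fs})).ι q).obj
      ((tilde.functor R₀).obj M)) := by
  let U := LocCoh.puncturedOpen A (Ideal.span {a | a ∈ fs})
  let F := (tilde.functor R₀).obj M
  let Cx := ComplexShape.up ℤ
  haveI : PreservesFiniteLimits (tilde.functor R₀) := M1.tilde_preservesFiniteLimits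
  haveI : PreservesFiniteColimits (tilde.functor R₀) :=
    haveI := (tilde.adjunction (R := R₀)).leftAdjoint_preservesColimits
    inferInstance
  haveI : (tilde.functor R₀).Additive := Functor.additive_of_preserves_binary_products (tilde.functor R₀)
  haveI : (CxOX.gammaZKh U.ι).HasRightDerivedFunctor (HomotopyCategory.quasiIso (Spec R₀).Modules Cx) :=
    KInjLib.hasRightDerivedFunctor KInjLib.enoughKInj_of_grothendieck _
  haveI : CxOX.HasRgammaZ U.ι := ‹_›
  obtain ⟨e⟩ := RgZ9.nonempty_cech_iso fs M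
  let R := injectiveResolution F
  let I := R.cochainComplex
  let u := (CxOX.gammaZKh U.ι).totalRightDerivedUnit DerivedCategory.Qh
    (HomotopyCategory.quasiIso (Spec R₀).Modules Cx)
  let qI := (HomotopyCategory.quotient (Spec R₀).Modules Cx).obj I
  haveI : IsIso (u.app qI) := KInjLib.isIso_app_of_isKInjective KInjLib.enoughKInj_of_grothendieck u I
  let e0 := DerivedCategory.quotientCompQhIso (Spec R₀).Modules
  let eI : DerivedCategory.Qh.obj qI ≅ (DPerf.tildeDD R₀).obj (Dual.inD A M) :=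
    e0.app I ≪≫ (asIso (DerivedCategory.Q.map R.ι')).symm ≪≫
      ((DerivedCategory.singleFunctorIsoCompQ (Spec R₀).Modules 0).app F).symm ≪≫
      (((tilde.functor R₀).mapDerivedCategorySingleFunctor 0).app M).symm
  let a : (CxOX.RgammaZ U.ι).obj ((DPerf.tildeDD R₀).obj (Dual.inD A M)) ≅
      DerivedCategory.Q.obj (((DCoh.gammaZ U.ι).mapHomologicalComplex Cx).obj I) :=
    (CxOX.RgammaZ U.ι).mapIso eI.symm ≪≫ (asIso (u.app qI)).symm ≪≫
      DerivedCategory.Qh.mapIso (((DCoh.gammaZ U.ι).mapHomotopyCategoryFactors Cx).app I) ≪≫ e0.app _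
  have h1 : IsZero (DCoh.HD ((DPerf.tildeDD R₀).obj (DerivedCategory.Q.obj (DerCA.extCech M fs))) (q : ℤ)) :=
    ((tilde.functor R₀).map_isZero (h.of_iso
      ((DerivedCategory.homologyFunctorFactors (ModuleCat.{u} A) (q : ℤ)).app _))).of_iso (DPerf.hdTildeIso _ _)
  have h2 := h1.of_iso ((DerivedCategory.homologyFunctor (Spec R₀).Modules (q : ℤ)).mapIso (e ≪≫ a)).symm
  have h3 := h2.of_iso ((DerivedCategory.homologyFunctorFactors (Spec R₀).Modules (q : ℤ)).app
    (((DCoh.gammaZ U.ι).mapHomologicalComplex Cx).obj I)).symm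
  exact h3.of_iso (RFPlus.homologyMapResolutionIso (DCoh.gammaZ U.ι) R q).symm

end Affine

variable {X : Scheme.{u}}

set_option maxHeartbeats 3200000 in
/-- The vanishing theorem. -/
theorem isZero_HZshM_koszul [HasInjectiveResolutions X.Modules] (U : X.Opens) (c : ℕ)
    (hZ : ∀ x : X, ∃ (V : X.Opens) (fs : List Γ(X, V)), x ∈ V ∧ IsAffineOpen V ∧ fs.length = c ∧
      LCI.IsKoszulRegularSeq Γ(X, V) fs ∧
      X.zeroLocus (U := V) {a | a ∈ fs} ∩ (V : Set ↥X) = (U : Set ↥X)ᶜ ∩ (V : Set ↥X))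
    (F : X.Modules) (hF : Coh.IsQCoh F) (hFl : FlatMod.IsFlat F) (i : ℕ) (hi : i ≠ c) :
    IsZero ((_root_.LocCohZ.HZshM U.ι i).obj F) := by
  choose V fs hxV hV hlen hreg hz using hZ
  refine LocCohZQ.isZero_of_cover _ V (fun x => ⟨x, hxV x⟩) fun x => ?_
  let A := Γ(X, V x)
  let j : Spec A ⟶ X := (hV x).fromSpec
  have hU : j ⁻¹ᵁ U = LocCoh.puncturedOpen A (Ideal.span {a | a ∈ fs x}) := by
    refine TopologicalSpace.Opens.ext (Set.ext fun p => ?_)
    have hp : j p ∈ V x := by
      rw [← SetLike.mem_coe, ← IsAffineOpen.range_fromSpec (hV x)]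
      exact ⟨p, rfl⟩
    have h0 := Set.ext_iff.1 (hz x) (j p)
    have h1 : j p ∈ X.zeroLocus (U := V x) {a | a ∈ fs x} ↔ p ∈ PrimeSpectrum.zeroLocus {a | a ∈ fs x} := by
      rw [← (hV x).fromSpec_preimage_zeroLocus]
      rfl
    show j p ∈ U ↔ p ∈ (PrimeSpectrum.zeroLocus ((Ideal.span {a | a ∈ fs x} : Ideal A) : Set A))ᶜ
    rw [PrimeSpectrum.zeroLocus_span, Set.mem_compl_iff, ← h1]
    simp only [Set.mem_inter_iff, SetLike.mem_coe, hp, and_true, Set.mem_compl_iff] at h0
    rw [h0, not_not]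
  obtain ⟨e⟩ := LocCohZQ.nonempty_HZshM_restrict U j i
  haveI : Coh.IsQCoh (F.restrict j) := M1.isQCoh_restrict hF j
  let M : ModuleCat.{u} A := (moduleSpecΓFunctor (R := A)).obj (F.restrict j)
  haveI : IsIso (Scheme.Modules.fromTildeΓ (F.restrict j)) := Scheme.Modules.isIso_fromTildeΓ_of_isQuasicoherent (R := A) _
  let eM : (tilde.functor A).obj M ≅ F.restrict j := asIso (Scheme.Modules.fromTildeΓ (F.restrict j))
  haveI : Module.Flat A M := DPerf.flat_of_isFlat_tilde (R := A)
    ((KFlat.Sch.isFlat_iff _).1 (((KFlat.Sch.isFlat_iff _).2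
      (fun z => (ResProp14.flatAt_restrict_iff j F z).2 (hFl _))).of_iso eM))
  have hk : IsZero ((_root_.LocCohZ.HZshM (j ⁻¹ᵁ U).ι i).obj (F.restrict j)) := by
    rw [hU]
    exact (isZero_HZshM_punctured (A := A) (fs x) M i
      (isZero_extCechH_flat A (fs x) (hreg x) M _ (by rw [hlen]; exact_mod_cast hi))).of_iso
      ((_root_.LocCohZ.HZshM _ i).mapIso eM.symm)
  have hj : IsZero ((Scheme.Modules.restrictFunctor j).obj ((_root_.LocCohZ.HZshM U.ι i).obj F)) :=
    hk.of_iso (e.app F)
  let k := (hV x).isoSpec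
  have hcomp : k.hom ≫ j = (V x).ι := by
    show k.hom ≫ (k.inv ≫ (V x).ι) = (V x).ι
    rw [Iso.hom_inv_id_assoc]
  exact ((Scheme.Modules.restrictFunctor k.hom).map_isZero hj).of_iso
    (((Scheme.Modules.restrictFunctorCongr hcomp).symm ≪≫ Scheme.Modules.restrictFunctorComp k.hom j).app _)

end Groth.Agent.LocEq9
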